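import Cfsg.Agent.Lib.Spor.TC.Signed

/-!
An excluded extension of the centralizer, case 0 2 3: tables found by a computer search.
-/

set_option autoImplicit false
set_option maxRecDepth 100000

namespace CfsgLib.Spor.HSType.Cert.H023

open CfsgLib.Spor.TC

def edgeTbl : Tbl :=
  (.bin (.bin (.tip 0x150000610001400015300013000140000020001320000400008500000000129000100000280001100003900010000110000000001080000f0000370000e0000f00000e0000e4000000000e60000c0000d1000070000c10000a0000b3000090000a30000800009000004000082000070000120000600007100005000063000040000500000100004200001000015000030000000000200003000000000004000000000020000100002000000000010) (.tip 0x3c00006a0000b0003c4000090000540002600009a000070003b90003a0000c9000380003a0000390000c70003600039000038000079000370003800000600037800036000077000350003600000600035600034000064000330003470003200033300031000325000300003120002f0003040002e0002f70002d0002e30002c0002d40002b0002c90002a0002b3000290002a00002800029000027000282000050002780002600005400025000264)) (.bin (.tip 0x250000550002400025000004000244000230001e80001100023600011000018000110001aa000110001200000f0001e00000d0001420000d000061000150000da0000c0001da000120000290002200012a000020002280001e00002600021000197000200002130001f0002000001e0001f2000020001e60001d0001510001c0001d30001b0001c0000030001b2000010001a9000190000b100018000193000170001830001600017000013000162)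 (.tip 0x10000100000a0000200001a0001200010a0001100010a000230002340004500023a000450004540000e00045800044000233000430004400004200043200041000428000400004130003f0004000003b0003f20003b0000d90003e0003ba0003d0002140003e0000d90003a0003e00003d0000d7000390003d00000d0001950000b000064000340000ba)))

def nodeTbl : Tbl :=
  (.bin (.bin (.tip 0x1e20000260001c30001b00000320000190001830001730001600001320001430001300000220000090001000000080000e00000060000c10000710000a3000093000080000042000061000053000040000012000020000010000000000000) (.tip 0xe80004300004220004180004030003f0)) (.bin (.tip 0x3b20003a00003900000b40000790003800003600003700000680003500000660003370003230003150003020002f40002e70002d30002c40002b90002a30002900002800002720000580002540002400000440001160000280002030001f0) .none))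

def rowTbl : Tbl :=
  .none

/-- The relators. -/
def rels : List (List ℕ) := [
  [0, 0, 0, 0],
  [2, 2, 2, 2, 2, 2, 2],
  [4, 4, 4],
  [4, 2, 5, 3, 3],
  [4, 0, 5, 1],
  [0, 2, 0, 3, 1, 2, 1, 3],
  [0, 2, 2, 0, 3, 3, 1, 2, 2, 1, 3, 3],
  [2, 0, 3, 2, 2, 0, 3, 3, 2, 1, 3, 2, 2, 1, 3, 3],
  [2, 2, 2, 0, 3, 3, 3, 2, 2, 1, 3, 3, 2, 2, 1, 3, 3, 2, 1, 3, 2, 1, 3, 2, 1, 3, 1],
  [6, 4, 7, 4],
  [6, 0, 7, 0],
  [6, 2, 0, 3, 7, 2, 2, 1, 3, 3],
  [6, 6],
  [2, 6, 2, 6, 2, 6],
  [8, 4, 9, 5],
  [8, 0, 9, 0],
  [8, 8, 1, 1],
  [8, 6, 8, 6, 1, 1, 1],
  [8, 2, 0, 0, 3, 9, 4, 3, 7, 4, 2, 5, 3, 7, 4, 2],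
  [8, 3, 5, 6, 2, 9, 2, 2, 1, 3, 3, 2, 2, 1, 3, 3],
  [8, 2, 0, 3, 8, 2, 0, 3, 8, 2, 0, 3, 5, 7]]

/-- The generators of the subgroup. -/
def subs : List (List ℕ) := [[2], [4]]

/-- The certificate. -/
noncomputable def cert : Cert :=
  ⟨10, rels, subs, edgeTbl.get 44, nodeTbl.get 24, rowTbl.get 20⟩

/-- The word traced into the subgroup. -/
def target : List ℕ := [0, 0]

end CfsgLib.Spor.HSType.Cert.H023
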