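import Cfsg.Agent.Lib.Spor.HSType.Cert.H023.Data

/-!
Checks of a part of the derivation.
-/

set_option autoImplicit false

namespace CfsgLib.Spor.HSType.Cert.H023

open CfsgLib.Spor.TC

def scodes0 : List ℕ := [
  0x1,
  0x1,
  0x10000100003,
  0x10000200003,
  0x1,
  0x2000040000a00004000010000100002,
  0x1000080000200003000010000500002,
  0x1,
  0x1,
  0x1,
  0x1,
  0x100005000020001000012000140001600006000010000600002,
  0x1,
  0x1,
  0x1,
  0x1,
  0x1,
  0x1,
  0x1,
  0x25000080002600002000010000a00002,
  0x1,
  0xc000260002a00003000010000b00002,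
  0x1,
  0x1,
  0xc0002e0003000003000010001000002,
  0x3000010002e00002000010001100002,
  0x1,
  0x190000f0000d0001000003000020000400002,
  0x1,
  0x1,
  0x1,
  0x13000110000f000040003a0003c0003e00005000020000600002,
  0x1,
  0x1,
  0x1,
  0x1,
  0x1f0001d0001b000190000f000040003a0004200044000460004800007000020000700002,
  0x1,
  0x1,
  0x1,
  0x1,
  0x3d0003b000390000a0004e000500005200005000030000600002,
  0x1,
  0x1,
  0x1,
  0x1,
  0x470004500043000410003900056000580005a0005c00005000030000c00002,
  0x5600002000030000d00002,
  0x1,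
  0x350000b000090006200002000030001100002,
  0x620006400004,
  0x510004f0004d0000c0000600002000170002200006000040000600002,
  0x23000680005400004,
  0x3f0006a00004,
  0x3e0006a00004,
  0x550000a0002b00002000040000b00002,
  0x660000a0003100002000040001000002,
  0x4b000010000b0003100002000040001100002,
  0x4c0007300004,
  0x1,
  0x6000003000010000b000310007800003000040001200002,
  0x1,
  0x1,
  0x110007c0007e00003000050000500002,
  0x1,
  0x7f0008200003000060000300002,
  0x1,
  0x1,
  0x1,
  0x1,
  0x1,
  0x1,
  0x1,
  0x1,
  0x1,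
  0x1,
  0x1,
  0x1,
  0x1,
  0x1,
  0x1300086000880008a0008c0008e00090000920009400096000980009a0009c0009e000a00000f000060001300002,
  0x1,
  0x1,
  0x15000a4000a600003000070000b00002,
  0x1,
  0x1,
  0x15000aa000ac00003000070001000002,
  0x1,
  0x21000a7000b000003000080000b00002,
  0x1,
  0x21000ad000b400003000080001000002,
  0x1,
  0x1b00037000120008300004000090000500002,
  0x83000ba00004,
  0x1,
  0x13000bb0001e00020000be000020000c0000400002,
  0xbe000c0000a100004,
  0xa1000c200004,
  0x4a000c40006b000030000c0000500002,
  0x1,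
  0x23000b1000c8000030000d0000b00002,
  0x1,
  0x23000b5000cc000030000d0001000002,
  0x5e000c5000c9000020000e0000a00002,
  0xb70002200024000cd000020000e0001100002,
  0xcd000d200004,
  0x1,
  0x1,
  0x1,
  0x1,
  0x1,
  0x1,
  0x7a000580005a0005c000cf000ca000d3000d6000d8000da000dc000de000e0000080000e0001500002,
  0x1,
  0xe300027000e4000020000f0000f00002,
  0x7a0006f00029000e4000020000f0001100002,
  0xe7000e5000e800004,
  0x340003a0003c0006d000d3000d6000d8000da000dc000de000e0000e2000e9000770000f000110001500002,
  0xeb0002f000eb0007200004,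
  0x75000ec0003400004,
  0x36000ee00034000f000004,
  0x2000f200004]

set_option maxRecDepth 100000 in
theorem steps0 : cert.SStepsOK 0 122 :=
  Cert.SStepsOK.of_check _ (codes := scodes0) (by decide +kernel)

end CfsgLib.Spor.HSType.Cert.H023
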